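import Cfsg.Agent.H80.Fpf.Reduce
import Cfsg.Agent.H701.FpfG2
import Cfsg.Agent.SporRec.LyG2.G14
import Cfsg.Agent.SporRec.LyG2.LyEmb
import Cfsg.Agent.H51.Rad3.Ly

/-!
# The Lyons group: at most two fixed-point-free primes (helper51, for S4228)

`r = 3, 5, 7, 31` : the subgroup `G₂(5)`; `r = 11` : the subgroup `3^5 : 11`.
-/

set_option autoImplicit false

namespace Cfsg.Agent.H51.Fpf.Ly

open Subgroup Cfsg Cfsg.Lie Cfsg.Agent.H80.Fpf Cfsg.Agent.H701.FpfG2 Cfsg.Agent.H378.ExcAdj Cfsg.Agent.H51.LyThree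

/-- `G₂(q)`, `q ≥ 5`: no odd prime -/
theorem not_may_G2 {F : Type} [Field F] [Fintype F] (h5 : 5 ≤ Fintype.card F) {r : ℕ} (hr : r.Prime) (hr2 : r ≠ 2)
    (hd : r ∣ Nat.card ↥(chevG2.group F)) : ¬ May r ↥(chevG2.group F) := by
  have hcard : Nat.card F = Fintype.card F := Nat.card_eq_fintype_card
  have hq : 1 ≤ Nat.card F := Nat.card_pos
  rcases od_G2 hr hd with h | h | h | h | h
  · apply not_may_small hr hr2
    rw [← hcard]
    exact dvd_mul_of_dvd_left h _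
  · apply not_may_small hr hr2
    rw [← hcard]
    exact dvd_mul_of_dvd_right (dvd_of_od_dvd hq (by rw [h]; norm_num)) _
  · apply not_may_small hr hr2
    rw [← hcard]
    exact dvd_mul_of_dvd_right (dvd_of_od_dvd hq (by rw [h])) _
  · exact not_may_big h5 hr hr2 hd (Or.inl h)
  · exact not_may_big h5 hr hr2 hd (Or.inr h)

/-- the primes of `G₂(5)` -/
theorem not_may_of_G2 {r : ℕ} (hr : r.Prime) (hr2 : r ≠ 2) (hd : r ∣ 5859000000) : ¬ May r Cfsg.Spor.Ly := by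
  intro hM
  have hc : Nat.card ↥(chevG2.group (ZMod 5)) = 5859000000 := by
    rw [← Nat.card_congr Cfsg.Agent.SporRec.LyG2.G14.equivChev.toEquiv, Cfsg.Agent.SporRec.LyG2.M7.card_P44]
  refine not_may_G2 (F := ZMod 5) (by rw [ZMod.card]) hr hr2 (by rw [hc]; exact hd)
    (hM.of_hom Cfsg.Agent.SporRec.LyG2.LyEmb.η Cfsg.Agent.SporRec.LyG2.G14.equivChev.toMonoidHom
      Cfsg.Agent.SporRec.LyG2.G14.equivChev.surjective ?_ ?_ Cfsg.Agent.SporRec.LyG2.Simple.commutator_top)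
  · rw [(MonoidHom.ker_eq_bot_iff _).2 Cfsg.Agent.SporRec.LyG2.G14.equivChev.injective]
    exact bot_le
  · rw [(MonoidHom.ker_eq_bot_iff _).2 Cfsg.Agent.SporRec.LyG2.LyEmb.η_injective]
    exact bot_le

theorem not_may_eleven : ¬ May 11 Cfsg.Spor.Ly := by
  have hfin := Cfsg.Agent.H51.Rad3.Ly.finite_ly
  have hs : IsSimpleGroup Cfsg.Spor.Ly := Cfsg.Agent.Ly.Setup.isLy'.1
  have : Fact (Nat.Prime 3) := ⟨Nat.prime_three⟩
  have : Fact (Nat.Prime 11) := ⟨by norm_num⟩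
  have hE : IsPGroup 3 ↥Cfsg.Agent.H51.Rad3.Ly.E := fun x => ⟨1, Subtype.ext (by
    show (x : Cfsg.Spor.Ly) ^ 3 ^ 1 = 1
    rw [pow_one]; exact Cfsg.Agent.H51.Rad3.Ly.E_props.1 x x.2)⟩
  have hne : e 0 * g ≠ g * e 0 := by
    intro h
    apply e1_ne
    rw [Cfsg.Agent.H51.Rad3.Ly.e_succ, mul_assoc, h, inv_mul_cancel_left]
  refine not_may_of_act (l := 3) (r := 11) (K := Cfsg.Agent.H51.Rad3.Ly.E) (x := g) (by norm_num) (by norm_num)
    Nat.prime_three (by norm_num) (good_of_odd Nat.prime_three (by norm_num) (by norm_num) (by norm_num)) hE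
    (orderOf_eq_prime Cfsg.Agent.H51.Rad3.Ly.g11 ?_)
    (fun k hk => (mem_normalizer_iff.1 Cfsg.Agent.H51.Rad3.Ly.g_norm k).1 hk) (k := e 0) (mem_e 0 (by norm_num))
    (fun h => hne h.symm)
  rintro hg
  apply hne
  rw [hg, mul_one, one_mul]

/-- **`Ly`** -/
theorem row_ly : Row Cfsg.Spor.Ly := by
  refine row_of 37 67 fun r hr hr2 hd h37 h67 => ?_
  rw [Cfsg.Agent.Ly.Setup.card_ly] at hd
  have h1 : r ∣ 2 ^ 8 * 3 ^ 7 * 5 ^ 6 * 7 * 11 * 31 * 37 * 67 := by norm_num; exact hd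
  have key : ∀ {q : ℕ}, q.Prime → r ∣ q → r = q := fun hq h => (Nat.prime_dvd_prime_iff_eq hr hq).1 h
  rw [hr.dvd_mul, hr.dvd_mul, hr.dvd_mul, hr.dvd_mul, hr.dvd_mul, hr.dvd_mul, hr.dvd_mul] at h1
  rcases h1 with ((((((h1 | h1) | h1) | h1) | h1) | h1) | h1) | h1
  · exact absurd (key Nat.prime_two (hr.dvd_of_dvd_pow h1)) hr2
  · exact not_may_of_G2 hr hr2 (by rw [key Nat.prime_three (hr.dvd_of_dvd_pow h1)]; norm_num)
  · exact not_may_of_G2 hr hr2 (by rw [key Nat.prime_five (hr.dvd_of_dvd_pow h1)]; norm_num)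
  · exact not_may_of_G2 hr hr2 (by rw [key (by norm_num) h1]; norm_num)
  · rw [key (by norm_num) h1]
    exact not_may_eleven
  · exact not_may_of_G2 hr hr2 (by rw [key (by norm_num) h1]; norm_num)
  · exact absurd (key (by norm_num) h1) h37
  · exact absurd (key (by norm_num) h1) h67

end Cfsg.Agent.H51.Fpf.Ly
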